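import Groth.Prelude.Def_CInt
import Groth.Agent.Lib.AbRigid.Epi

/-!
# Schematically dense opens
-/

universe u

open CategoryTheory Limits AlgebraicGeometry Opposite

namespace Groth.Agent.NeronMap

theorem injective_map_of_le {X : Scheme.{u}} {U : X.Opens} (hU : CInt.IsSchematicallyDense U)
    {A B : X.Opens} (h : A ≤ B) (hA : B ⊓ U ≤ A) : Function.Injective (X.presheaf.map (homOfLE h).op) := by
  intro a b hab
  apply hU B
  have e : (homOfLE (inf_le_left : B ⊓ U ≤ B)).op = (homOfLE h).op ≫ (homOfLE hA).op := Subsingleton.elim _ _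
  rw [e, X.presheaf.map_comp]
  exact congrArg (X.presheaf.map (homOfLE hA).op) hab

theorem dense_preimage_ι {X : Scheme.{u}} {U : X.Opens} (hU : CInt.IsSchematicallyDense U) (W : X.Opens) :
    CInt.IsSchematicallyDense (W.ι ⁻¹ᵁ U : (W : Scheme.{u}).Opens) := by
  intro V
  have hle : W.ι ''ᵁ (V ⊓ W.ι ⁻¹ᵁ U) ≤ W.ι ''ᵁ V := W.ι.image_mono inf_le_left
  have hA : (W.ι ''ᵁ V) ⊓ U ≤ W.ι ''ᵁ (V ⊓ W.ι ⁻¹ᵁ U) := by
    rintro x ⟨⟨y, hy, rfl⟩, hxU⟩
    exact ⟨y, ⟨hy, hxU⟩, rfl⟩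
  exact injective_map_of_le hU hle hA

theorem ker_ι_eq_bot {X : Scheme.{u}} {U : X.Opens} (hU : CInt.IsSchematicallyDense U) : U.ι.ker = ⊥ := by
  rw [eq_bot_iff]
  intro A
  refine (U.ι.ideal_ker_le A).trans ?_
  rw [Scheme.IdealSheafData.ideal_bot, Pi.bot_apply, le_bot_iff, ← RingHom.injective_iff_ker_eq_bot]
  rw [Scheme.Opens.ι_app]
  refine injective_map_of_le hU _ ?_
  rintro x ⟨hxA, hxU⟩
  exact ⟨⟨x, hxU⟩, hxA, rfl⟩

/-- Maps to a separated scheme agreeing on a schematically dense open are equal. -/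
theorem eq_of_ι_comp_eq {X B S : Scheme.{u}} {U : X.Opens} (hU : CInt.IsSchematicallyDense U) (q : B ⟶ S)
    [IsSeparated q] (a b : X ⟶ B) (hS : a ≫ q = b ≫ q) (h : U.ι ≫ a = U.ι ≫ b) : a = b :=
  AbRigid.eq_of_comp_eq_of_ker_eq_bot U.ι (ker_ι_eq_bot hU) q a b hS h

end Groth.Agent.NeronMap
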