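import Mathlib.AlgebraicGeometry.Morphisms.Etale
import Mathlib.AlgebraicGeometry.Pullbacks
import Mathlib.CategoryTheory.Comma.Over.Pullback
import Mathlib.CategoryTheory.Monoidal.Cartesian.Over
import Mathlib.CategoryTheory.Monoidal.Cartesian.Grp

/-!
# Formal properties of extension properties `Hom_S(Z,N) ≃ Hom_{S₀}(Z₀,N₀)`
-/

universe u

open CategoryTheory Limits AlgebraicGeometry

namespace Groth.Agent.NeronMap

variable {S₀ S : Scheme.{u}} (j : S₀ ⟶ S)

/-- `Z → N` extends uniquely every map defined over `S₀`. -/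
def Ext (N Z : Over S) : Prop :=
  Function.Bijective (fun g : Z ⟶ N => (Over.pullback j).map g)

theorem map_left_fst {N Z : Over S} (g : Z ⟶ N) :
    ((Over.pullback j).map g).left ≫ pullback.fst N.hom j = pullback.fst Z.hom j ≫ g.left :=
  pullback.lift_fst _ _ _

theorem hom_ext {T : Over S₀} {N : Over S} {a b : T ⟶ (Over.pullback j).obj N}
    (h : a.left ≫ pullback.fst N.hom j = b.left ≫ pullback.fst N.hom j) : a = b := by
  ext1
  exact pullback.hom_ext h ((Over.w a).trans (Over.w b).symm)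

theorem map_eq_iff {N Z : Over S} (g g' : Z ⟶ N) :
    (Over.pullback j).map g = (Over.pullback j).map g' ↔
      pullback.fst Z.hom j ≫ g.left = pullback.fst Z.hom j ≫ g'.left := by
  refine ⟨fun h => ?_, fun h => hom_ext j ?_⟩
  · rw [← map_left_fst, ← map_left_fst, h]
  · rw [map_left_fst, map_left_fst, h]

theorem ext_iff {N Z : Over S} :
    Ext j N Z ↔ ∀ h : pullback Z.hom j ⟶ N.left, h ≫ N.hom = pullback.fst Z.hom j ≫ Z.hom →
      ∃! g : Z ⟶ N, pullback.fst Z.hom j ≫ g.left = h := by
  refine ⟨fun hb h w => ?_, fun H => ⟨fun g g' hg => ?_, fun a => ?_⟩⟩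
  · obtain ⟨g, hg⟩ := hb.2 (Over.homMk (pullback.lift h (pullback.snd _ _) (by rw [w, pullback.condition]))
      (pullback.lift_snd _ _ _))
    have hg' : pullback.fst Z.hom j ≫ g.left = h := by
      rw [← map_left_fst]
      simp only at hg
      rw [hg]
      exact pullback.lift_fst _ _ _
    exact ⟨g, hg', fun g' h' => hb.1 ((map_eq_iff j g' g).2 (h'.trans hg'.symm))⟩
  · exact (H (pullback.fst Z.hom j ≫ g.left) (by rw [Category.assoc, Over.w])).unique rfl
      ((map_eq_iff j g' g).1 hg.symm)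
  · obtain ⟨g, hg, -⟩ := H (a.left ≫ pullback.fst N.hom j) (by
      rw [Category.assoc, pullback.condition, pullback.condition, ← Category.assoc]
      congr 1
      exact Over.w a)
    exact ⟨g, hom_ext j ((map_left_fst j g).trans hg)⟩

theorem ext_of_isPullback {N Z : Over S} (hE : Ext j N Z) {W : Scheme.{u}} {a : W ⟶ Z.left} {b : W ⟶ S₀}
    (hp : IsPullback a b Z.hom j) (h : W ⟶ N.left) (w : h ≫ N.hom = a ≫ Z.hom) :
    ∃! g : Z ⟶ N, a ≫ g.left = h := by
  have hc : pullback.fst Z.hom j = hp.isoPullback.inv ≫ a := hp.isoPullback_inv_fst.symm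
  obtain ⟨g, hg, huniq⟩ := (ext_iff j).1 hE (hp.isoPullback.inv ≫ h) (by
    rw [Category.assoc, w, hc, Category.assoc])
  dsimp only at hg huniq
  refine ⟨g, ?_, fun g' h' => huniq g' ?_⟩
  · rw [hc, Category.assoc, cancel_epi] at hg
    exact hg
  · dsimp only at h'
    rw [hc, Category.assoc, h']

theorem ext_comp {S₁ : Scheme.{u}} (j₁ : S₁ ⟶ S) (k : S₀ ⟶ S₁) (hj : k ≫ j₁ = j) {N Z : Over S}
    (h1 : Ext j₁ N Z) (h10 : Ext k ((Over.pullback j₁).obj N) ((Over.pullback j₁).obj Z)) : Ext j N Z := by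
  have hp : IsPullback (pullback.lift (pullback.fst Z.hom j) (pullback.snd _ _ ≫ k)
      (by rw [pullback.condition, Category.assoc, hj])) (pullback.snd Z.hom j)
      ((Over.pullback j₁).obj Z).hom k := by
    refine IsPullback.of_right ?_ (pullback.lift_snd _ _ _) (IsPullback.of_hasPullback Z.hom j₁)
    rw [pullback.lift_fst, hj]
    exact IsPullback.of_hasPullback _ _
  set a := pullback.lift (pullback.fst Z.hom j) (pullback.snd _ _ ≫ k)
      (by rw [pullback.condition, Category.assoc, hj])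
  have ha : a ≫ pullback.fst Z.hom j₁ = pullback.fst Z.hom j := pullback.lift_fst _ _ _
  refine ⟨fun g g' hg => h1.1 (h10.1 (hom_ext k ?_)), fun c => ?_⟩
  · have h' := (map_eq_iff j g g').1 hg
    rw [map_left_fst, map_left_fst]
    rw [← cancel_epi hp.isoPullback.hom]
    rw [hp.isoPullback_hom_fst_assoc, hp.isoPullback_hom_fst_assoc]
    refine pullback.hom_ext ?_ ?_
    · simp only [Category.assoc, map_left_fst]
      rw [reassoc_of% ha, reassoc_of% ha, h']
    · simp only [Category.assoc]
      congr 1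
      exact (Over.w ((Over.pullback j₁).map g)).trans (Over.w ((Over.pullback j₁).map g')).symm
  · obtain ⟨t, ht, -⟩ := ext_of_isPullback k h10 hp
      (pullback.lift (c.left ≫ pullback.fst N.hom j) (pullback.snd Z.hom j ≫ k) (by
        rw [Category.assoc, pullback.condition, Category.assoc, hj, ← Category.assoc]
        congr 1
        exact Over.w c)) (by
        show _ ≫ pullback.snd _ _ = a ≫ pullback.snd _ _
        rw [pullback.lift_snd, pullback.lift_snd])
    obtain ⟨g, hg⟩ := h1.2 t
    simp only at hg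
    refine ⟨g, hom_ext j ?_⟩
    rw [map_left_fst]
    have := congr($ht ≫ pullback.fst N.hom j₁)
    rw [Category.assoc, pullback.lift_fst, ← hg, map_left_fst, reassoc_of% ha] at this
    exact this

theorem ext_cancel {S₁ : Scheme.{u}} (j₁ : S₁ ⟶ S) (k : S₀ ⟶ S₁) (hj : k ≫ j₁ = j) {N Z : Over S}
    (h0 : Ext j N Z) (h10 : Function.Injective
      (fun g : (Over.pullback j₁).obj Z ⟶ (Over.pullback j₁).obj N => (Over.pullback k).map g)) :
    Ext j₁ N Z := by
  subst hj
  have key : ∀ g g' : Z ⟶ N, (Over.pullback j₁).map g = (Over.pullback j₁).map g' →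
      pullback.fst Z.hom (k ≫ j₁) ≫ g.left = pullback.fst Z.hom (k ≫ j₁) ≫ g'.left := fun g g' h => by
    have h2 := congr(pullback.lift (pullback.fst Z.hom (k ≫ j₁)) (pullback.snd _ _ ≫ k)
      (by rw [pullback.condition, Category.assoc]) ≫ $((map_eq_iff j₁ g g').1 h))
    rwa [pullback.lift_fst_assoc, pullback.lift_fst_assoc] at h2
  refine ⟨fun g g' h => h0.1 ((map_eq_iff (k ≫ j₁) g g').2 (key g g' h)), fun c => ?_⟩
  let φ : pullback Z.hom (k ≫ j₁) ⟶ pullback Z.hom j₁ :=
    pullback.lift (pullback.fst Z.hom (k ≫ j₁)) (pullback.snd _ _ ≫ k) (by rw [pullback.condition, Category.assoc])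
  have hφ : φ ≫ pullback.fst Z.hom j₁ = pullback.fst Z.hom (k ≫ j₁) := pullback.lift_fst _ _ _
  obtain ⟨g, hg, -⟩ := (ext_iff (k ≫ j₁)).1 h0 (φ ≫ c.left ≫ pullback.fst N.hom j₁) (by
    rw [Category.assoc, Category.assoc, pullback.condition, ← hφ, Category.assoc, pullback.condition]
    congr 1
    rw [← Category.assoc]
    congr 1
    exact Over.w c)
  refine ⟨g, h10 (hom_ext k ?_)⟩
  simp only
  rw [map_left_fst, map_left_fst]
  refine pullback.hom_ext ?_ ?_
  · rw [Category.assoc, Category.assoc, map_left_fst]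
    have hp : IsPullback φ (pullback.snd Z.hom (k ≫ j₁)) ((Over.pullback j₁).obj Z).hom k := by
      refine IsPullback.of_right ?_ (pullback.lift_snd _ _ _) (IsPullback.of_hasPullback Z.hom j₁)
      rw [hφ]
      exact IsPullback.of_hasPullback _ _
    rw [← cancel_epi hp.isoPullback.hom, hp.isoPullback_hom_fst_assoc, hp.isoPullback_hom_fst_assoc,
      reassoc_of% hφ]
    exact hg
  · rw [Category.assoc, Category.assoc]
    congr 1
    exact (Over.w ((Over.pullback j₁).map g)).trans (Over.w c).symm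

theorem ext_of_iso {S₀' : Scheme.{u}} (e : S₀' ≅ S₀) (j' : S₀' ⟶ S) (hj : j' = e.hom ≫ j) {N Z : Over S}
    (h : Ext j N Z) : Ext j' N Z := by
  have hp : IsPullback (pullback.fst Z.hom j') (pullback.snd Z.hom j' ≫ e.hom) Z.hom j := by
    refine IsPullback.of_iso (IsPullback.of_hasPullback Z.hom j') (Iso.refl _) (Iso.refl _) e (Iso.refl _)
      ?_ ?_ ?_ ?_ <;> simp [hj]
  exact (ext_iff j').2 fun c w => ext_of_isPullback j h hp c w

instance : MorphismProperty.IsMultiplicative @Smooth.{u} where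
  id_mem _ := inferInstance

theorem smooth_of_comp {X Y T : Scheme.{u}} (a : X ⟶ Y) (f : Y ⟶ T) [Smooth (a ≫ f)] [LocallyOfFiniteType f]
    [FormallyUnramified f] : Smooth a := by
  haveI : MorphismProperty.HasOfPostcompProperty @Smooth (@LocallyOfFiniteType ⊓ @FormallyUnramified) := by
    rw [MorphismProperty.hasOfPostcompProperty_iff_le_diagonal]
    intro X Y f ⟨hft, hfu⟩
    exact inferInstanceAs (Smooth (pullback.diagonal f))
  exact MorphismProperty.of_postcomp @Smooth (W' := @LocallyOfFiniteType ⊓ @FormallyUnramified) a f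
    ⟨‹_›, ‹_›⟩ ‹_›

theorem ext_etale_comp {T₀ T S N : Scheme.{u}} {jT : T₀ ⟶ T} {jS : S₀ ⟶ S} {k : S₀ ⟶ T₀} {f : S ⟶ T}
    (hp : IsPullback jS k f jT) [Etale f] (g : N ⟶ S) (Z : Over T) [Smooth Z.hom]
    (hS : Ext jT (Over.mk f) Z) (hN : ∀ Z' : Over S, Smooth Z'.hom → Ext jS (Over.mk g) Z') :
    Ext jT (Over.mk (g ≫ f)) Z := by
  refine (ext_iff jT).2 fun h w => ?_
  have w' : (h ≫ g) ≫ f = pullback.fst Z.hom jT ≫ Z.hom := by rw [Category.assoc]; exact w
  obtain ⟨a, ha, ha'⟩ := (ext_iff jT).1 hS (h ≫ g) w'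
  dsimp only at ha ha'
  haveI : Smooth (a.left ≫ f) := by
    rw [show a.left ≫ f = Z.hom from Over.w a]
    infer_instance
  haveI hsm : Smooth a.left := smooth_of_comp a.left f
  let b : pullback Z.hom jT ⟶ S₀ := hp.lift (pullback.fst _ _ ≫ a.left) (pullback.snd _ _) (by
    rw [Category.assoc, show a.left ≫ f = Z.hom from Over.w a, pullback.condition])
  have hpb : IsPullback (pullback.fst Z.hom jT) b (Over.mk a.left).hom jS := by
    refine IsPullback.of_bot ?_ (hp.lift_fst _ _ _).symm hp
    rw [show b ≫ k = pullback.snd _ _ from hp.lift_snd _ _ _]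
    have e1 : (Over.mk a.left).hom ≫ f = Z.hom := Over.w a
    rw [e1]
    exact IsPullback.of_hasPullback _ _
  obtain ⟨c, hc, hc'⟩ := ext_of_isPullback jS (hN (Over.mk a.left) hsm) hpb h (by
    show h ≫ g = _ ≫ a.left
    exact ha.symm)
  dsimp only at hc hc'
  have hcg : c.left ≫ g = a.left := Over.w c
  refine ⟨Over.homMk c.left (by
    show c.left ≫ g ≫ f = Z.hom
    rw [← Category.assoc, hcg]
    exact Over.w a), hc, fun d hd => ?_⟩
  have hda : d.left ≫ g = a.left := by
    refine congr($(ha' (Over.homMk (d.left ≫ g) ((Category.assoc _ _ _).trans (Over.w d))) ?_).left)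
    simp only [Over.homMk_left]; rw [← Category.assoc, hd]
  have := hc' (Over.homMk d.left hda) hd
  ext1
  exact congr($(this).left)

theorem ext_pullback {T₀ T S : Scheme.{u}} {jT : T₀ ⟶ T} {jS : S₀ ⟶ S} {k : S₀ ⟶ T₀} {f : S ⟶ T}
    (hp : IsPullback jS k f jT) {N : Over T} {Z : Over S} (h : Ext jT N (Over.mk (Z.hom ≫ f))) :
    Ext jS ((Over.pullback f).obj N) Z := by
  refine (ext_iff jS).2 fun c w => ?_
  have w' : c ≫ pullback.snd N.hom f = pullback.fst Z.hom jS ≫ Z.hom := w
  obtain ⟨g, hg, hg'⟩ := ext_of_isPullback jT h ((IsPullback.of_hasPullback Z.hom jS).paste_vert hp)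
    (c ≫ pullback.fst N.hom f) (by
      rw [Category.assoc, pullback.condition, ← Category.assoc, w', Category.assoc]; rfl)
  dsimp only at hg hg'
  refine ⟨Over.homMk (pullback.lift g.left Z.hom (Over.w g)) (pullback.lift_snd _ _ _), ?_, fun d hd => ?_⟩
  · refine pullback.hom_ext ?_ ?_
    · simp only [Over.homMk_left, Category.assoc, pullback.lift_fst]; exact hg
    · simp only [Over.homMk_left, Category.assoc, pullback.lift_snd]; exact w'.symm
  · have hd2 : d.left ≫ pullback.snd N.hom f = Z.hom := Over.w d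
    have e := hg' (Over.homMk (d.left ≫ pullback.fst N.hom f) (by
      rw [Category.assoc, pullback.condition, ← Category.assoc, hd2]; rfl))
      (by simp only [Over.homMk_left]; rw [← Category.assoc, hd])
    ext1
    refine pullback.hom_ext ?_ ?_
    · simp only [Over.homMk_left, pullback.lift_fst]; exact congr($(e).left)
    · simp only [Over.homMk_left, pullback.lift_snd]; exact hd2

theorem ext_prod {N M Z : Over S} (hN : Ext j N Z) (hM : Ext j M Z) :
    Ext j (Over.mk (pullback.fst N.hom M.hom ≫ N.hom)) Z := by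
  refine (ext_iff j).2 fun h w => ?_
  have w1 : (h ≫ pullback.fst N.hom M.hom) ≫ N.hom = pullback.fst Z.hom j ≫ Z.hom := by
    rw [Category.assoc]; exact w
  have w2 : (h ≫ pullback.snd N.hom M.hom) ≫ M.hom = pullback.fst Z.hom j ≫ Z.hom := by
    rw [Category.assoc, ← pullback.condition]; exact w
  obtain ⟨a, ha, ha'⟩ := (ext_iff j).1 hN _ w1
  obtain ⟨b, hb, hb'⟩ := (ext_iff j).1 hM _ w2
  dsimp only at ha ha' hb hb'
  refine ⟨Over.homMk (pullback.lift a.left b.left ((Over.w a).trans (Over.w b).symm))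
    (by show _ ≫ pullback.fst _ _ ≫ N.hom = _; rw [pullback.lift_fst_assoc, Over.w]), ?_, fun d hd => ?_⟩
  · refine pullback.hom_ext ?_ ?_
    · simp only [Over.homMk_left]; rw [Category.assoc, pullback.lift_fst, ha]
    · simp only [Over.homMk_left]; rw [Category.assoc, pullback.lift_snd, hb]
  · ext1
    have e := ha' (Over.homMk (d.left ≫ pullback.fst _ _) (by
      rw [Category.assoc]; exact Over.w d)) (by simp only [Over.homMk_left]; rw [← Category.assoc, hd])
    have e2 := hb' (Over.homMk (d.left ≫ pullback.snd _ _) (by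
      rw [Category.assoc, ← pullback.condition]; exact Over.w d)) (by simp only [Over.homMk_left]; rw [← Category.assoc, hd])
    refine pullback.hom_ext ?_ ?_
    · simp only [Over.homMk_left]; rw [pullback.lift_fst]; exact congr($(e).left)
    · simp only [Over.homMk_left]; rw [pullback.lift_snd]; exact congr($(e2).left)

theorem ext_fibre {G H Z : Over S} (hG : Ext j G Z) (hH : Ext j H Z) (f : G ⟶ H) (e : S ⟶ H.left)
    (he : e ≫ H.hom = 𝟙 S) : Ext j (Over.mk (pullback.snd f.left e)) Z := by
  refine (ext_iff j).2 fun h w => ?_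
  have w' : h ≫ pullback.snd f.left e = pullback.fst Z.hom j ≫ Z.hom := w
  have hf : f.left ≫ H.hom = G.hom := Over.w f
  obtain ⟨a, ha, ha'⟩ := (ext_iff j).1 hG (h ≫ pullback.fst _ _) (by
    rw [Category.assoc, ← hf, pullback.condition_assoc, he, Category.comp_id]; exact w')
  dsimp only at ha ha'
  have hae : a.left ≫ f.left = Z.hom ≫ e := by
    have := hH.1 (a₁ := a ≫ f) (a₂ := Over.homMk (Z.hom ≫ e) (by rw [Category.assoc, he, Category.comp_id]))
      ((map_eq_iff j _ _).2 (by
        simp only [Over.comp_left, Over.homMk_left]; rw [reassoc_of% ha, pullback.condition, reassoc_of% w']))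
    exact congr($(this).left)
  refine ⟨Over.homMk (pullback.lift a.left Z.hom hae) (pullback.lift_snd _ _ _), ?_, fun d hd => ?_⟩
  · refine pullback.hom_ext ?_ ?_
    · simp only [Over.homMk_left]; rw [Category.assoc, pullback.lift_fst, ha]
    · simp only [Over.homMk_left]; rw [Category.assoc, pullback.lift_snd, w']
  · ext1
    have hd2 : d.left ≫ pullback.snd f.left e = Z.hom := Over.w d
    have e1 := ha' (Over.homMk (d.left ≫ pullback.fst _ _) (by
      rw [Category.assoc, ← hf, pullback.condition_assoc, he, Category.comp_id, hd2]))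
      (by simp only [Over.homMk_left]; rw [← Category.assoc, hd])
    refine pullback.hom_ext ?_ ?_
    · simp only [Over.homMk_left]; rw [pullback.lift_fst]; exact congr($(e1).left)
    · simp only [Over.homMk_left]; rw [pullback.lift_snd]; exact hd2

open MonoidalCategory MonObj in
theorem isMonHom_of_mul {C : Type*} [Category C] [CartesianMonoidalCategory C] {G H : C} [GrpObj G] [GrpObj H]
    (f : H ⟶ G) (hmul : μ[H] ≫ f = (f ⊗ₘ f) ≫ μ[G]) : IsMonHom f where
  one_hom := by
    have key : ((η[H] ≫ f) * (η[H] ≫ f) : 𝟙_ C ⟶ G) = η[H] ≫ f := by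
      rw [Hom.mul_def]
      calc CartesianMonoidalCategory.lift (η[H] ≫ f) (η[H] ≫ f) ≫ μ[G]
          = CartesianMonoidalCategory.lift η[H] η[H] ≫ μ[H] ≫ f := by
            rw [hmul, CartesianMonoidalCategory.lift_map_assoc]
        _ = ((η[H] : 𝟙_ C ⟶ H) * η[H]) ≫ f := by rw [Hom.mul_def, Category.assoc]
        _ = η[H] ≫ f := by
            congr 1
            rw [show (η[H] : 𝟙_ C ⟶ H) = 1 by simp [Hom.one_def], _root_.one_mul]
    have h1 : η[H] ≫ f = (1 : 𝟙_ C ⟶ G) := mul_left_cancel (key.trans (_root_.mul_one _).symm)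
    rw [h1, Hom.one_def]
    simp
  mul_hom := hmul

end Groth.Agent.NeronMap
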